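import Cfsg.Agent.H838.ThreeCl
import Cfsg.Agent.LThreeFi23.CentUu
import Cfsg.Agent.KFacts.FiTTh.Has

/-!
# `Fi23`: elements of 3-power order (helper29, row `Fi23` of S2443 / S4171, `t = 1`)

* `fix_ncom` : a 3-element commuting with a transposition commutes with two noncommuting transpositions, so it is
  conjugate into `CC = C(z0, j) ≅ PΩ₇(3)` (`into_CC`);
* `cases` : a 3-element either is conjugate into `CC`, or is inverted by an involution, or its centralizer has odd order.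
-/

set_option autoImplicit false
set_option maxRecDepth 100000
set_option linter.constructorNameAsVariable false

namespace Cfsg.Agent.H29.Ore.Fi

open Subgroup Cfsg Cfsg.Agent.LThreeFi23 Cfsg.Agent.H838.Fi23 Cfsg.Agent.H838.Three Cfsg.Agent.H838.Mono
open Cfsg.Agent.Fischer.Fi23Hom
open Cfsg.Spor (Fi23)

theorem card_ncom {p : ℕ} (hp : p < 31671) :
    ((Finset.range 31671).filter fun q => q ∉ CS [p]).card = 28160 := by
  classical
  have h1 := card1 hp
  have h2 : (Finset.range 31671).filter (fun q => q ∉ CS [p]) = Finset.range 31671 \ CS [p] := by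
    ext q; simp
  have h3 : CS [p] ⊆ Finset.range 31671 := by
    intro q hq
    rw [Finset.mem_range]
    exact (mem_CS.1 hq).1
  rw [h2, Finset.card_sdiff_of_subset h3, h1, Finset.card_range]

theorem fix_ncom {g : Fi23} {n : ℕ} (hg : g ^ 3 ^ n = 1) {p : ℕ} (hp : p < 31671) (hf : rho g p = p) :
    ∃ q, q < 31671 ∧ rho g q = q ∧ ¬ Com p q := by
  classical
  have h3 : Fact (Nat.Prime 3) := ⟨Nat.prime_three⟩
  have hm : ∀ q : ℕ, q ∈ (Finset.range 31671).filter (fun q => q ∉ CS [p]) →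
      rho g q ∈ (Finset.range 31671).filter (fun q => q ∉ CS [p]) := by
    intro q hq
    rw [Finset.mem_filter, Finset.mem_range, mem_CS] at hq ⊢
    refine ⟨act_lt g hq.1, fun h => hq.2 ⟨hq.1, ?_⟩⟩
    intro p' hp'
    have h4 := h.2 p' hp'
    rw [List.mem_singleton] at hp'
    subst hp'
    exact (com_fix g hp hf).1 h4
  let f : Function.End ↥((Finset.range 31671).filter (fun q => q ∉ CS [p])) := fun q => ⟨rho g q.1, hm q.1 q.2⟩
  have hpow : ∀ (k : ℕ) (q : ↥((Finset.range 31671).filter (fun q => q ∉ CS [p]))), ((f ^ k) q).1 = rho (g ^ k) q.1 := by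
    intro k
    induction k with
    | zero => intro q; rw [pow_zero, pow_zero, map_one]; rfl
    | succ k ih =>
      intro q
      have e : (f ^ (k + 1)) q = (f ^ k) (f q) := by
        rw [pow_succ]; rfl
      rw [e, ih, pow_succ, map_mul, Equiv.Perm.mul_apply]
  have hf1 : f ^ 3 ^ n = 1 := by
    funext q
    apply Subtype.ext
    rw [hpow, hg, map_one]
    rfl
  have h4 := Equiv.Perm.card_fixedPoints_modEq hf1
  rw [Fintype.card_coe, card_ncom hp] at h4
  have h5 : Fintype.card ↥f.fixedPoints ≠ 0 := by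
    intro h6
    rw [h6] at h4
    exact absurd h4 (by decide)
  obtain ⟨⟨q, hq⟩⟩ := Fintype.card_pos_iff.1 (Nat.pos_of_ne_zero h5)
  have h6 : rho g q.1 = q.1 := congrArg Subtype.val hq
  have h7 := (Finset.mem_filter.1 q.2)
  refine ⟨q.1, Finset.mem_range.1 h7.1, h6, fun h8 => h7.2 ?_⟩
  rw [mem_CS]
  exact ⟨Finset.mem_range.1 h7.1, by simpa using h8⟩

/-- two noncommuting fixed points -/
theorem into_CC_of_pair {g : Fi23} {p q : ℕ} (hp : p < 31671) (hq : q < 31671) (hf : rho g p = p) (hf' : rho g q = q)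
    (h : ¬ Com p q) : ∃ k : Fi23, k * g * k⁻¹ ∈ CC := by
  obtain ⟨k, hk, hk'⟩ := conjJ0 hp hq h
  refine ⟨k, comm_of_rho ?_ ?_⟩
  · rw [map_mul, map_mul, Equiv.Perm.mul_apply, Equiv.Perm.mul_apply, inv_app hk, hf, hk]
  · rw [map_mul, map_mul, Equiv.Perm.mul_apply, Equiv.Perm.mul_apply, inv_app hk', hf', hk']

/-- a 3-element fixing a point is conjugate into `CC` -/
theorem into_CC {g : Fi23} {n : ℕ} (hg : g ^ 3 ^ n = 1) {p : ℕ} (hp : p < 31671) (hf : rho g p = p) :
    ∃ k : Fi23, k * g * k⁻¹ ∈ CC := by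
  obtain ⟨q, hq, hf', h⟩ := fix_ncom hg hp hf
  exact into_CC_of_pair hp hq hf hf' h

/-! ### involutions and their transpositions -/

open Cfsg.Agent.KFacts.FiTTh.Cent Cfsg.Agent.Fischer.Fi23Z in
theorem stable_pt {W : Fi23} {Ds Xs : Set Fi23} {P : Set ℕ}
    (hW : ∀ p < 31671, rho W p = p → ∀ d ∈ Ds, rho d p = p)
    (hP : ∀ p < 31671, rho W p = p → (∀ x ∈ Xs, rho x p = p) → p ∈ P)
    (hX : ∀ x ∈ Xs, IsConj z0 x) (hWX : ∀ x ∈ Xs, W * x = x * W) (hWD : ∀ d ∈ Ds, W * d = d * W)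
    {y : Fi23} (hy : y * W = W * y) {p : ℕ} (hp : p < 31671) (hd : T p ∈ Ds) : rho y p ∈ P := by
  obtain ⟨h, rfl⟩ := exists_rep hp
  exact stable hW hP hX hWX hWD hy (by rw [← T_eq (g := h) rfl]; exact hd)

open Cfsg.Agent.KFacts.FiTTh.Cent Cfsg.Agent.Fischer.Fi23Z in
theorem perm_two {y : Fi23} (hy : y * W2 = W2 * y) {p : ℕ} (hp : p = 0 ∨ p = 11589) :
    rho y p = 0 ∨ rho y p = 11589 := by
  have h1 : T 0 = z0 := T_zero
  have h2 : T 11589 = gen .a := T_pt .a
  have h3 : p < 31671 ∧ T p ∈ Ds2 := by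
    rcases hp with rfl | rfl
    · exact ⟨by norm_num, by rw [h1]; exact Or.inl rfl⟩
    · exact ⟨by norm_num, by rw [h2]; exact Or.inr rfl⟩
  have h4 := stable_pt (P := (({0, 11589} : Finset ℕ) : Set ℕ)) hW2 hP2 hX2 hWX2 hWD2 hy h3.1 h3.2
  simpa using h4

open Cfsg.Agent.KFacts.FiTTh.Cent Cfsg.Agent.Fischer.Fi23Z in
theorem perm_three {y : Fi23} (hy : y * W3 = W3 * y) {p : ℕ} (hp : p = 0 ∨ p = 8003 ∨ p = 11589) :
    rho y p = 0 ∨ rho y p = 8003 ∨ rho y p = 11589 := by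
  have h1 : T 0 = z0 := T_zero
  have h2 : T 11589 = gen .a := T_pt .a
  have h2' : T 8003 = gen .c := T_pt .c
  have h3 : p < 31671 ∧ T p ∈ Ds3 := by
    rcases hp with rfl | rfl | rfl
    · exact ⟨by norm_num, by rw [h1]; exact Or.inl rfl⟩
    · exact ⟨by norm_num, by rw [h2']; exact Or.inr (Or.inr rfl)⟩
    · exact ⟨by norm_num, by rw [h2]; exact Or.inr (Or.inl rfl)⟩
  have h4 := stable_pt (P := (({0, 8003, 11589} : Finset ℕ) : Set ℕ)) hW3 hP3 hX3 hWX3 hWD3 hy h3.1 h3.2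
  simpa using h4

/-! ### Elements of 3-power order with an even centralizer -/

/-- a power -/
theorem fix_of_sq {y : Fi23} {n : ℕ} (hy : y ^ 3 ^ n = 1) {p : ℕ} (h : rho (y * y) p = p) : rho y p = p := by
  obtain ⟨m, hm⟩ : ∃ m, 3 ^ n = 2 * m + 1 := (Odd.pow (by decide : Odd 3)).imp fun m hm => hm
  have h1 : (y * y) ^ (m + 1) = y := by
    rw [← pow_two, ← pow_mul, show 2 * (m + 1) = (2 * m + 1) + 1 by ring, ← hm, pow_succ, hy, one_mul]
  have h2 : ∀ k : ℕ, rho ((y * y) ^ k) p = p := by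
    intro k
    induction k with
    | zero => rw [pow_zero, map_one]; rfl
    | succ k ih => rw [pow_succ, map_mul, Equiv.Perm.mul_apply, h, ih]
  have h3 := h2 (m + 1)
  rwa [h1] at h3

theorem conj_Pw_of_cycle {x : Fi23} {n : ℕ} (hx : x ^ 3 ^ n = 1) {p q r : ℕ} (hp : p < 31671) (hq : q < 31671)
    (hr : r < 31671) (h4 : Com p q) (h1 : q ≠ p) (h5 : Com p r) (h6 : Com q r) (h2 : r ≠ p) (h3 : r ≠ q)
    (h7 : rho x p = q) (h8 : rho x q = r) (h9 : rho x r = p) : ∃ k : Fi23, k * x * k⁻¹ ∈ Pw := by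
  obtain ⟨g, e1, e2, e3⟩ := conjZ2 hp hq hr h4 h1 h5 h6 h2 h3
  obtain ⟨k, f1, f2, f3⟩ := conjZ2 (p := 7999) (q := 8001) (r := 0) (by norm_num) (by norm_num) (by norm_num) com_he
    (by norm_num) com_hz com_ez (by norm_num) (by norm_num)
  have a1 : rho (k⁻¹ * g) p = 7999 := by rw [map_mul, Equiv.Perm.mul_apply, e1, inv_app f1]
  have a2 : rho (k⁻¹ * g) q = 8001 := by rw [map_mul, Equiv.Perm.mul_apply, e2, inv_app f2]
  have a3 : rho (k⁻¹ * g) r = 0 := by rw [map_mul, Equiv.Perm.mul_apply, e3, inv_app f3]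
  set m := k⁻¹ * g with hm
  have app : ∀ {u v u' v' : ℕ}, rho m u = u' → rho m v = v' → rho x u = v → rho (m * x * m⁻¹) u' = v' := by
    intro u v u' v' hu hv huv
    rw [map_mul, map_mul, Equiv.Perm.mul_apply, Equiv.Perm.mul_apply, inv_app hu, huv, hv]
  have hK : m * x * m⁻¹ ∈ K := K_of_cycle (app a1 a2 h7) (app a2 a3 h8) (app a3 a1 h9)
  have hx' : (m * x * m⁻¹) ^ 3 ^ n = 1 := by rw [conj_pow, hx, mul_one, mul_inv_cancel]
  have : Fact (Nat.Prime 3) := ⟨by norm_num⟩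
  have hcard : Nat.card ↥(Pw.subgroupOf K) = 3 ^ 5 := by
    rw [Nat.card_congr (Subgroup.subgroupOfEquivOfLe Pw_le).toEquiv, Pw_card]; norm_num
  obtain ⟨l, hl⟩ := exists_conj_mem (G := ↥K) (p := 3) (n := 5) (Pw.subgroupOf K) (IsPGroup.of_card hcard)
    (by rw [hcard]) card_K (y := ⟨m * x * m⁻¹, hK⟩) (k := n) (Subtype.ext hx')
  have hl' := Subgroup.mem_subgroupOf.1 hl
  refine ⟨l.1 * m, ?_⟩
  have e : l.1 * m * x * (l.1 * m)⁻¹ = l.1 * (m * x * m⁻¹) * l.1⁻¹ := by group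
  rw [e]
  exact hl'

theorem com_ltp {x y : Lt} (h : adjL x y = false) : Com (pt x) (pt y) := by
  rw [com_pt_iff, fix_pt_iff]
  exact lt_comm x y h

theorem com_0a : Com 0 11589 := com_ltp (x := .z) (y := .a) (by decide)
theorem com_0c : Com 0 8003 := com_ltp (x := .z) (y := .c) (by decide)
theorem com_ac' : Com 8003 11589 := com_ltp (x := .c) (y := .a) (by decide)

theorem even_case {g : Fi23} {n : ℕ} (hg : g ^ 3 ^ n = 1) {z : Fi23} (hz : z * z = 1) (hz1 : z ≠ 1)
    (hzg : g * z = z * g) : (∃ p < 31671, rho g p = p) ∨ ∃ k : Fi23, k * g * k⁻¹ ∈ Pw := by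
  have key : ∀ W : Fi23, IsConj z W →
      ∃ h : Fi23, (h * g * h⁻¹) * W = W * (h * g * h⁻¹) := by
    intro W hW
    obtain ⟨h, rfl⟩ := isConj_iff.1 hW
    refine ⟨h, ?_⟩
    calc h * g * h⁻¹ * (h * z * h⁻¹) = h * (g * z) * h⁻¹ := by group
      _ = h * (z * g) * h⁻¹ := by rw [hzg]
      _ = _ := by group
  have back : ∀ (h : Fi23) (p : ℕ), p < 31671 → rho (h * g * h⁻¹) p = p → ∃ p < 31671, rho g p = p := by
    intro h p hp hpp
    refine ⟨rho h⁻¹ p, act_lt _ hp, ?_⟩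
    rw [map_mul, map_mul, Equiv.Perm.mul_apply, Equiv.Perm.mul_apply] at hpp
    have h2 := congrArg (rho h⁻¹) hpp
    rwa [← Equiv.Perm.mul_apply (rho h⁻¹), ← map_mul, inv_mul_cancel, map_one, Equiv.Perm.one_apply] at h2
  rcases Cfsg.Agent.KFacts.FiTTh.Has.inv z hz hz1 with h | h | h
  · left
    obtain ⟨h, hh⟩ := key _ h
    refine back h 0 (by norm_num) ?_
    rw [fix_iff _ (by norm_num), T_zero]
    exact hh
  · left
    obtain ⟨h, hh⟩ := key _ h
    have hy : (h * g * h⁻¹) ^ 3 ^ n = 1 := by rw [conj_pow, hg, mul_one, mul_inv_cancel]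
    set y := h * g * h⁻¹ with hydef
    refine back h 0 (by norm_num) ?_
    rw [← hydef]
    rcases perm_two hh (Or.inl rfl) with h0 | h0
    · exact h0
    · apply fix_of_sq hy
      rw [map_mul, Equiv.Perm.mul_apply, h0]
      rcases perm_two hh (Or.inr rfl) with h1 | h1
      · exact h1
      · have := (rho y).injective (h0.trans h1.symm)
        norm_num at this
  · obtain ⟨h, hh⟩ := key _ h
    have hy : (h * g * h⁻¹) ^ 3 ^ n = 1 := by rw [conj_pow, hg, mul_one, mul_inv_cancel]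
    set y := h * g * h⁻¹ with hydef
    have ha := perm_three hh (p := 0) (Or.inl rfl)
    have hb := perm_three hh (p := 8003) (Or.inr (Or.inl rfl))
    have hc := perm_three hh (p := 11589) (Or.inr (Or.inr rfl))
    have hinj : ∀ {p q r : ℕ}, rho y p = r → rho y q = r → p = q := fun h1 h2 => (rho y).injective (h1.trans h2.symm)
    have fixd : ∀ p, p < 31671 → rho y p = p → (∃ p < 31671, rho g p = p) ∨ ∃ k : Fi23, k * g * k⁻¹ ∈ Pw :=
      fun p hp hpp => Or.inl (back h p hp hpp)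
    have hs : ∀ {p q : ℕ}, p < 31671 → q < 31671 → Com p q → Com q p := fun hp hq h => (com_comm hp hq).1 h
    have conj : (∃ k : Fi23, k * y * k⁻¹ ∈ Pw) → (∃ p < 31671, rho g p = p) ∨ ∃ k : Fi23, k * g * k⁻¹ ∈ Pw := by
      rintro ⟨k, hk⟩
      refine Or.inr ⟨k * h, ?_⟩
      have e : k * h * g * (k * h)⁻¹ = k * (h * g * h⁻¹) * k⁻¹ := by group
      rw [e]; exact hk
    rcases ha with ha | ha | ha
    · exact fixd 0 (by norm_num) ha
    · rcases hb with hb | hb | hb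
      · -- 0 ↔ 8003
        refine fixd 0 (by norm_num) (fix_of_sq hy ?_)
        rw [map_mul, Equiv.Perm.mul_apply, ha, hb]
      · exact fixd 8003 (by norm_num) hb
      · rcases hc with hc | hc | hc
        · exact conj (conj_Pw_of_cycle hy (p := 0) (q := 8003) (r := 11589) (by norm_num) (by norm_num) (by norm_num)
            com_0c (by norm_num) com_0a com_ac' (by norm_num) (by norm_num) ha hb hc)
        · have := hinj ha hc; norm_num at this
        · exact fixd 11589 (by norm_num) hc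
    · rcases hc with hc | hc | hc
      · refine fixd 0 (by norm_num) (fix_of_sq hy ?_)
        rw [map_mul, Equiv.Perm.mul_apply, ha, hc]
      · rcases hb with hb | hb | hb
        · exact conj (conj_Pw_of_cycle hy (p := 0) (q := 11589) (r := 8003) (by norm_num) (by norm_num) (by norm_num)
            com_0a (by norm_num) com_0c (hs (by norm_num) (by norm_num) com_ac') (by norm_num) (by norm_num) ha hc hb)
        · exact fixd 8003 (by norm_num) hb
        · have := hinj ha hb; norm_num at this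
      · exact fixd 11589 (by norm_num) hc

/-! ### The elements of the 3-group `Pw` -/

theorem CI.fix {x y : Fi23} (h : CI x y) (hy : ∃ p < 31671, rho y p = p) : ∃ p < 31671, rho x p = p := by
  obtain ⟨g, h⟩ := h
  obtain ⟨p, hp, hpp⟩ := hy
  have h1 : rho (g * x * g⁻¹) p = p := by
    rcases h with h | h
    · rw [h]; exact hpp
    · rw [h]; exact inv_app hpp
  refine ⟨rho g⁻¹ p, act_lt _ hp, ?_⟩
  rw [map_mul, map_mul, Equiv.Perm.mul_apply, Equiv.Perm.mul_apply] at h1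
  have h2 := congrArg (rho g⁻¹) h1
  rwa [← Equiv.Perm.mul_apply (rho g⁻¹), ← map_mul, inv_mul_cancel, map_one, Equiv.Perm.one_apply] at h2

theorem fix_ltw {w : List Lt} {x : Lt} (h : ∀ y ∈ w, adjL y x = false) : rho (elw w) (pt x) = pt x := by
  induction w with
  | nil => rw [elw_nil, map_one]; rfl
  | cons y w ih =>
    rw [elw_cons, map_mul, Equiv.Perm.mul_apply, ih fun u hu => h u (List.mem_cons_of_mem _ hu)]
    rw [fix_pt_iff]
    exact lt_comm y x (h y List.mem_cons_self)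

theorem uu_fix : rho uu 11589 = 11589 := by
  have h := fix_ltw (w := [.z, .j]) (x := .a) (by decide)
  rwa [elw_cons, elw_one] at h

theorem three_fix {x : Fi23} (hx : x ^ 3 = 1) : ∃ p < 31671, rho x p = p := by
  by_cases h1 : x = 1
  · exact ⟨0, by norm_num, by rw [h1, map_one]; rfl⟩
  obtain ⟨k, hk⟩ := classes hx h1
  refine CI.fix hk ?_
  fin_cases k
  · exact ⟨11589, by norm_num, uu_fix⟩
  · exact ⟨0, by norm_num, fix_ltw (w := y135) (x := .z) (by decide)⟩
  · exact ⟨11589, by norm_num, fix_ltw (w := y324) (x := .a) (by decide)⟩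
  · exact ⟨8002, by norm_num, fix_ltw (w := y27) (x := .f) (by decide)⟩

/-- the elements of the 3-group -/
noncomputable abbrev FF (u : ZMod 3 × V × ZMod 3) : Fi23 := F (el .a) (el .b) (el .c) (elw wR) (elw wt) u

theorem FF_zero (v : V) (j : ZMod 3) : rho (FF (0, v, j)) 0 = 0 := by
  have ha : el .a ∈ stab [0] := by
    intro p hp; rw [List.mem_singleton] at hp; subst hp
    exact (fix_pt_iff _ .z).2 (lt_comm _ _ (by decide))
  have hb : el .b ∈ stab [0] := by
    intro p hp; rw [List.mem_singleton] at hp; subst hp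
    exact (fix_pt_iff _ .z).2 (lt_comm _ _ (by decide))
  have hc : el .c ∈ stab [0] := by
    intro p hp; rw [List.mem_singleton] at hp; subst hp
    exact (fix_pt_iff _ .z).2 (lt_comm _ _ (by decide))
  have hR : elw wR ∈ stab [0] := by
    intro p hp; rw [List.mem_singleton] at hp; subst hp
    exact ptsChk_spec k_pts (wR, 0, 0) (by simp)
  have h1 : q1 (el .a) (elw wR) ∈ stab [0] := mul_mem ha hR
  have h2 : q2 (el .a) (el .b) (elw wR) ∈ stab [0] := mul_mem (mul_mem hb h1) (inv_mem hb)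
  have h3 : q3 (el .a) (el .b) (el .c) (elw wR) ∈ stab [0] := mul_mem (mul_mem hc h2) (inv_mem hc)
  have h4 : FF (0, v, j) ∈ stab [0] := by
    refine mul_mem (mul_mem ?_ (mul_mem (mul_mem (pow_mem h1 _) (pow_mem h2 _)) (pow_mem h3 _)))
      (pow_mem (mul_mem ha hb) _)
    change pz (elw wt) 0 ∈ _
    rw [pz_zero]
    exact one_mem _
  exact h4 0 (by simp)

theorem FF_one : FF (0, 0, 0) = 1 := by
  change pz (elw wt) 0 * A _ _ _ _ 0 * pz _ 0 = _
  rw [pz_zero, pz_zero, A_zero, one_mul, one_mul]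

theorem FF_cube0 (i : ZMod 3) (v : V) : (FF (i, v, 0)) ^ 3 = 1 := by
  rw [pow_succ, pow_two, F_mul cfg, F_mul cfg, ← FF_one]
  congr 1
  revert i v
  decide +kernel

theorem FF_cube1 (i : ZMod 3) (v : V) (h : v + sg v + sg (sg v) = 0) : (FF (i, v, 1)) ^ 3 = 1 := by
  rw [pow_succ, pow_two, F_mul cfg, F_mul cfg, ← FF_one]
  congr 1
  refine Prod.ext ?_ (Prod.ext h ?_)
  · change i + i + i = 0
    revert i; decide
  · change (1 : ZMod 3) + 1 + 1 = 0
    decide

theorem a_FF (i : ZMod 3) (v : V) : el .a * FF (i, v, 2) * (el .a)⁻¹ = FF (i, ac .a v, 1) := by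
  have h1 : el .a * FF (i, v, 2) * (el .a)⁻¹ = (el .a * pz (elw wt) i * (el .a)⁻¹) *
      (el .a * A (el .a) (el .b) (el .c) (elw wR) v * (el .a)⁻¹) * (el .a * pz (el .a * el .b) 2 * (el .a)⁻¹) :=
    conj3 _ _ _ _
  have h2 : el .a * pz (elw wt) i * (el .a)⁻¹ = pz (elw wt) i := by
    have e : Commute (el .a) (pz (elw wt) i) := (show Commute (elw wt) (el .a) from cfg.ta).symm.pow_right _
    rw [e.eq, mul_inv_cancel_right]
  have h3 : el .a * pz (el .a * el .b) 2 * (el .a)⁻¹ = pz (el .a * el .b) 1 := by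
    rw [pz_two, pz_one]
    have h4 := s_3 cfg
    have h5 : (el .a * el .b) ^ 2 = (el .a * el .b)⁻¹ := by
      apply eq_inv_of_mul_eq_one_left
      rw [← pow_succ]; exact h4
    rw [h5, s_i cfg, ai cfg]
    calc el .a * (el .b * el .a) * el .a = el .a * el .b * (el .a * el .a) := by group
      _ = _ := by rw [cfg.a2, mul_one]
  rw [h1, h2, A_a cfg, h3]
  rfl

theorem dec_tr : ∀ v : V, v + sg v + sg (sg v) ≠ 0 → ∃ w : V, w + v + sg (-w) = (0, 0, 1) ∨ w + v + sg (-w) = (0, 0, 2) := by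
  decide +kernel

/-- the first element of order 9 -/
def wD1 : List Lt := wt ++ (wA 0 0 1 ++ [.a, .b])
/-- the second element of order 9 -/
def wD2 : List Lt := wt ++ (wA 0 0 2 ++ [.a, .b])

theorem D1_eq : elw wD1 = FF (1, (0, 0, 1), 1) := by
  unfold wD1
  rw [elw_append, elw_append, show wA 0 0 1 = wA (((0, 0, 1) : V).1.val) (((0, 0, 1) : V).2.1.val)
    (((0, 0, 1) : V).2.2.val) from rfl, A_eq, elw_cons, elw_one]
  change _ = pz (elw wt) 1 * A _ _ _ _ (0, 0, 1) * pz _ 1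
  rw [pz_one, pz_one, mul_assoc]

theorem D2_eq : elw wD2 = FF (1, (0, 0, 2), 1) := by
  unfold wD2
  rw [elw_append, elw_append, show wA 0 0 2 = wA (((0, 0, 2) : V).1.val) (((0, 0, 2) : V).2.1.val)
    (((0, 0, 2) : V).2.2.val) from rfl, A_eq, elw_cons, elw_one]
  change _ = pz (elw wt) 1 * A _ _ _ _ (0, 0, 2) * pz _ 1
  rw [pz_one, pz_one, mul_assoc]

theorem conj_FF (w v : V) : A (el .a) (el .b) (el .c) (elw wR) w * FF (1, v, 1) *
    (A (el .a) (el .b) (el .c) (elw wR) w)⁻¹ = FF (1, w + v + sg (-w), 1) := by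
  have e0 : ∀ v : V, FF (1, v, 1) = elw wt * A (el .a) (el .b) (el .c) (elw wR) v * (el .a * el .b) := by
    intro v
    change pz (elw wt) 1 * A _ _ _ _ v * pz _ 1 = _
    rw [pz_one, pz_one]
  have e1 := (t_A cfg w).eq
  rw [e0, e0, ← A_neg cfg, A_add cfg, A_add cfg]
  calc A (el .a) (el .b) (el .c) (elw wR) w * (elw wt * A (el .a) (el .b) (el .c) (elw wR) v * (el .a * el .b)) *
        A (el .a) (el .b) (el .c) (elw wR) (-w)
      = (A (el .a) (el .b) (el .c) (elw wR) w * elw wt) * A (el .a) (el .b) (el .c) (elw wR) v *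
        ((el .a * el .b) * A (el .a) (el .b) (el .c) (elw wR) (-w)) := by group
    _ = _ := by rw [← e1, A_s cfg]; group

theorem case11 (v : V) : (∃ p < 31671, rho (FF (1, v, 1)) p = p) ∨ CI (FF (1, v, 1)) (elw wD1) ∨
    CI (FF (1, v, 1)) (elw wD2) := by
  by_cases h : v + sg v + sg (sg v) = 0
  · exact Or.inl (three_fix (FF_cube1 1 v h))
  right
  obtain ⟨w, hw⟩ := dec_tr v h
  have e := conj_FF w v
  rcases hw with hw | hw
  · left
    refine ⟨A (el .a) (el .b) (el .c) (elw wR) w, Or.inl ?_⟩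
    rw [e, hw, D1_eq]
  · right
    refine ⟨A (el .a) (el .b) (el .c) (elw wR) w, Or.inl ?_⟩
    rw [e, hw, D2_eq]

theorem Pw_case {x : Fi23} (hx : x ∈ Pw) : (∃ p < 31671, rho x p = p) ∨ CI x (elw wD1) ∨ CI x (elw wD2) := by
  have tr : ∀ {x y : Fi23}, CI x y → ((∃ p < 31671, rho y p = p) ∨ CI y (elw wD1) ∨ CI y (elw wD2)) →
      ((∃ p < 31671, rho x p = p) ∨ CI x (elw wD1) ∨ CI x (elw wD2)) := by
    intro x y hxy h
    rcases h with h | h | h
    · exact Or.inl (CI.fix hxy h)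
    · exact Or.inr (Or.inl (hxy.trans h))
    · exact Or.inr (Or.inr (hxy.trans h))
  obtain ⟨⟨i, v, j⟩, rfl⟩ := hx
  change (∃ p < 31671, rho (FF (i, v, j)) p = p) ∨ CI (FF (i, v, j)) _ ∨ CI (FF (i, v, j)) _
  have inv2 : ∀ (v : V) (j : ZMod 3), ∃ v' : V, CI (FF (2, v, j)) (FF (1, v', -j)) := by
    intro v j
    refine ⟨sg^[(-j).val] (-v), ?_⟩
    refine CI.inv_left ?_
    rw [F_inv cfg]
    exact CI.refl _
  have j2 : ∀ v : V, (∃ p < 31671, rho (FF (1, v, 2)) p = p) ∨ CI (FF (1, v, 2)) (elw wD1) ∨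
      CI (FF (1, v, 2)) (elw wD2) := by
    intro v
    exact tr (CI.of_conj (el .a) (a_FF 1 v)) (case11 _)
  rcases z3_cases i with rfl | rfl | rfl
  · exact Or.inl ⟨0, by norm_num, FF_zero v j⟩
  · rcases z3_cases j with rfl | rfl | rfl
    · exact Or.inl (three_fix (FF_cube0 1 v))
    · exact case11 v
    · exact j2 v
  · rcases z3_cases j with rfl | rfl | rfl
    · exact Or.inl (three_fix (FF_cube0 2 v))
    · obtain ⟨v', hv'⟩ := inv2 v 1
      exact tr hv' (j2 v')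
    · obtain ⟨v', hv'⟩ := inv2 v 2
      exact tr hv' (case11 v')

/-! ### The two classes of elements of order 9 without fixed points are strongly real -/

/-- an involution inverting the first element -/
def wu1 : List Lt := [.d, .e, .f, .g, .j, .b, .c, .d, .h, .i, .e, .d, .h, .f, .g, .e, .f, .c, .d, .e, .a, .b, .c, .d, .h, .i, .f,
    .c, .d, .e, .b, .c, .d, .h, .a, .b, .c, .d, .e, .f, .g, .j, .z, .e, .c, .d, .h, .f, .g, .e, .f, .d, .e, .b,
    .c, .d, .h, .i, .e, .f, .d, .e, .c, .d, .h, .a, .b, .c, .d, .e, .f, .g, .d, .e, .a, .b, .c, .d, .h, .i, .f,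
    .e, .d, .h, .a, .b, .c, .d, .e, .f, .d, .h, .i, .e, .b, .c, .d, .h, .a, .b, .c, .d, .e, .h, .i, .d, .h, .a,
    .b, .c, .d, .b, .c]

/-- an involution inverting the second element -/
def wu2 : List Lt := [.d, .h, .i, .f, .e, .d, .h, .f, .g, .e, .f, .c, .d, .e, .b, .c, .d, .h, .i, .g, .e, .f, .d, .e, .b, .c, .d,
    .h, .a, .b, .c, .d, .e, .f, .g, .j, .h, .g, .e, .f, .d, .e, .c, .d, .h, .i, .e, .f, .d, .e, .c, .d, .h, .b,
    .c, .d, .e, .f, .g, .d, .h, .e, .f, .d, .e, .b, .c, .d, .h, .i, .d, .e, .b, .c, .d, .h, .a, .b, .c, .d, .e,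
    .f, .i, .c, .d, .h, .b, .c, .d, .e, .i, .h, .d, .i]

theorem k_u1 : eqM (wu1 ++ wu1) [] = true := by decide +kernel
theorem k_u2 : eqM (wu2 ++ wu2) [] = true := by decide +kernel
theorem k_v1 : eqM (wu1 ++ wD1) (wD1.reverse ++ wu1) = true := by decide +kernel
theorem k_v2 : eqM (wu2 ++ wD2) (wD2.reverse ++ wu2) = true := by decide +kernel

/-- inverted by an element of square one -/
def SR (g : Fi23) : Prop := ∃ u : Fi23, u * u = 1 ∧ u * g * u⁻¹ = g⁻¹

theorem SR.of_words {u w : List Lt} (h1 : eqM (u ++ u) [] = true) (h2 : eqM (u ++ w) (w.reverse ++ u) = true) :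
    SR (elw w) := by
  refine ⟨elw u, ?_, ?_⟩
  · have h := elw_eq h1
    rwa [elw_append, elw_nil] at h
  · have h := elw_eq h2
    rw [elw_append, elw_append, elw_reverse] at h
    rw [h, mul_inv_cancel_right]

theorem SR.of_CI {x y : Fi23} (h : CI x y) (hy : SR y) : SR x := by
  obtain ⟨g, h⟩ := h
  obtain ⟨u, hu, hv⟩ := hy
  have hy' : ∀ y' : Fi23, (y' = y ∨ y' = y⁻¹) → u * y' * u⁻¹ = y'⁻¹ := by
    rintro y' (rfl | rfl)
    · exact hv
    · have e : u * y⁻¹ * u⁻¹ = (u * y * u⁻¹)⁻¹ := by group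
      rw [e, hv]
  refine ⟨g⁻¹ * u * g, ?_, ?_⟩
  · calc g⁻¹ * u * g * (g⁻¹ * u * g) = g⁻¹ * (u * u) * g := by group
      _ = 1 := by rw [hu]; group
  · have h3 := hy' _ h
    calc g⁻¹ * u * g * x * (g⁻¹ * u * g)⁻¹ = g⁻¹ * (u * (g * x * g⁻¹) * u⁻¹) * g := by group
      _ = g⁻¹ * (g * x * g⁻¹)⁻¹ * g := by rw [h3]
      _ = x⁻¹ := by group

theorem sr_D1 : SR (elw wD1) := SR.of_words k_u1 k_v1
theorem sr_D2 : SR (elw wD2) := SR.of_words k_u2 k_v2

/-- **a 3-element with an even centralizer fixes a transposition or is inverted by an involution** -/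
theorem even_or {g : Fi23} {n : ℕ} (hg : g ^ 3 ^ n = 1) {z : Fi23} (hz : z * z = 1) (hz1 : z ≠ 1)
    (hzg : g * z = z * g) : (∃ p < 31671, rho g p = p) ∨ SR g := by
  rcases even_case hg hz hz1 hzg with h | ⟨k, hk⟩
  · exact Or.inl h
  · have h1 : CI g (k * g * k⁻¹) := CI.of_conj k rfl
    rcases Pw_case hk with h | h | h
    · exact Or.inl (CI.fix h1 h)
    · exact Or.inr (SR.of_CI (h1.trans h) sr_D1)
    · exact Or.inr (SR.of_CI (h1.trans h) sr_D2)

end Cfsg.Agent.H29.Ore.Fi
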