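import Cfsg.Agent.H29.Ore.FiA
import Cfsg.Agent.H777.Ore.Base
import Cfsg.Agent.S2447
import Cfsg.Agent.H146.Inv4.OrthOdd
import Cfsg.Agent.H199.NSmFi23
import Cfsg.Agent.H870.IMFiTwentyThree
import Cfsg.Agent.H839.Thirteen
import Cfsg.Agent.H839.SeventeenMain
import Cfsg.Agent.H839.ElevenMain

/-!
# `Fi23`: the elements of odd order are commutators and products of four elements with square one (helper29)

Row `Fi23` of S2443 and S4171, elements of odd order (`t = 1`).  Both use the same case distinction `odd_cases`: an element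
of odd order commutes with a conjugate of `uu = z0 j` (then it lies in `⟨uu⟩ × PΩ₇(3)`), or is inverted by an involution,
or its centralizer has order at most `26867295`.
-/

set_option autoImplicit false
set_option maxRecDepth 100000
set_option linter.constructorNameAsVariable false

namespace Cfsg.Agent.H29.Ore.Fi

open Subgroup Cfsg Cfsg.Agent.LThreeFi23 Cfsg.Agent.H838.Fi23 Cfsg.Agent.H838.Three Cfsg.Agent.H838.Mono
open Cfsg.Agent.Fischer.Fi23Hom Cfsg.Agent.H777.Ore
open Cfsg.Spor (Fi23)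

/-! ### The subgroup `CC ≅ PΩ₇(3)` -/

theorem allC_POmega : AllC (POmega (ZMod 3) (quadFormOdd 3 (ZMod 3))) := by
  have h : AllC ↥(Omega (ZMod 3) (quadFormOdd 3 (ZMod 3))) := fun g =>
    Cfsg.Agent.S2447.result (F := ZMod 3) (by rw [ZMod.card]; decide) 3 le_rfl g
  exact AllC.of_surjective (QuotientGroup.mk' _) (QuotientGroup.mk'_surjective _) h

theorem allC_CC : AllC ↥CC := AllC.congr eO.symm allC_POmega

theorem inv4_CC : Inv4 ↥CC := by
  have h : Cfsg.Agent.H146.Inv4.I4 (POmega (ZMod 3) (quadFormOdd 3 (ZMod 3))) :=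
    Cfsg.Agent.H146.Inv4.i4_poodd_form (by decide) le_rfl
  intro g
  obtain ⟨a, b, c, d, ha, hb, hc, hd, hg⟩ := h (eO g)
  refine ⟨eO.symm a, eO.symm b, eO.symm c, eO.symm d, ?_, ?_, ?_, ?_, ?_⟩
  · rw [← map_mul, ha, map_one]
  · rw [← map_mul, hb, map_one]
  · rw [← map_mul, hc, map_one]
  · rw [← map_mul, hd, map_one]
  · rw [← map_mul, ← map_mul, ← map_mul, ← hg, MulEquiv.symm_apply_apply]

theorem z_uu : el .z * uu * (el .z)⁻¹ = uu⁻¹ := by
  have hz := el_sq .z
  have hj := el_sq .j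
  have hz' := el_inv .z
  have hj' := el_inv .j
  unfold uu
  rw [mul_inv_rev, hz', hj', ← mul_assoc, hz, one_mul]

theorem z_uu_pow (i : ℕ) : el .z * uu ^ i * (el .z)⁻¹ = (uu ^ i)⁻¹ := by
  rw [← conj_pow, z_uu, inv_pow]

/-- the elements of `C(uu)` -/
theorem isC_uu {g : Fi23} (hg : g ∈ centralizer ({uu} : Set Fi23)) : IsC g := by
  obtain ⟨i, c, hc, rfl⟩ := exists_form hg
  obtain ⟨p, q, hpq⟩ := allC_CC ⟨c, hc⟩
  have hpq' : c = p.1 * q.1 * p.1⁻¹ * q.1⁻¹ := congrArg Subtype.val hpq
  have h3 : (uu ^ i) ^ 3 = 1 := by rw [← pow_mul, mul_comm, pow_mul, uu_pow, one_pow]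
  have cz : ∀ x : ↥CC, Commute (el .z) x.1 := fun x => (mem_CC.1 x.2).1.symm
  have cu : ∀ x : ↥CC, Commute (uu ^ i) x.1 := fun x =>
    (show Commute uu x.1 from (mem_centralizer_singleton_iff.1 (CC_le x.2)).symm).pow_left i
  refine isC_mul_of_commute (a := el .z) (b := uu ^ i) (c := p.1) (d := q.1) ?_ hpq' (cz p) (cz q) (cu p) (cu q)
  rw [z_uu_pow]
  have h4 : (uu ^ i)⁻¹ * (uu ^ i)⁻¹ = uu ^ i := by
    rw [← mul_inv_rev, inv_eq_iff_mul_eq_one, ← pow_two, ← pow_succ]
    exact h3
  exact h4.symm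

theorem i4_uu {g : Fi23} (hg : g ∈ centralizer ({uu} : Set Fi23)) : I4 g := by
  obtain ⟨i, c, hc, rfl⟩ := exists_form hg
  obtain ⟨p, q, r, s, hp, hq, hr, hs, hpq⟩ := inv4_CC ⟨c, hc⟩
  have hpq' : c = p.1 * q.1 * r.1 * s.1 := congrArg Subtype.val hpq
  have cz : ∀ x : ↥CC, Commute (el .z) x.1 := fun x => (mem_CC.1 x.2).1.symm
  have cu : ∀ x : ↥CC, Commute (uu ^ i) x.1 := fun x =>
    (show Commute uu x.1 from (mem_centralizer_singleton_iff.1 (CC_le x.2)).symm).pow_left i
  have hz := el_sq .z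
  have hz' := el_inv .z
  have h1 := z_uu_pow i
  have e1 : (el .z * p.1) * (el .z * p.1) = 1 := by
    have e := (cz p).eq
    have h := congrArg Subtype.val hp
    calc (el .z * p.1) * (el .z * p.1) = el .z * (p.1 * el .z) * p.1 := by group
      _ = el .z * (el .z * p.1) * p.1 := by rw [e]
      _ = (el .z * el .z) * (p.1 * p.1) := by group
      _ = 1 := by rw [hz, one_mul]; exact h
  have e2 : (el .z * uu ^ i) * (el .z * uu ^ i) = 1 := by
    rw [hz'] at h1
    calc (el .z * uu ^ i) * (el .z * uu ^ i) = (el .z * uu ^ i * el .z) * uu ^ i := by group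
      _ = 1 := by rw [h1, inv_mul_cancel]
  have e3 : (el .z * uu ^ i * q.1) * (el .z * uu ^ i * q.1) = 1 := by
    have e : Commute (el .z * uu ^ i) q.1 := (cz q).mul_left (cu q)
    have h := congrArg Subtype.val hq
    calc (el .z * uu ^ i * q.1) * (el .z * uu ^ i * q.1) = (el .z * uu ^ i) * (q.1 * (el .z * uu ^ i)) * q.1 := by group
      _ = (el .z * uu ^ i) * ((el .z * uu ^ i) * q.1) * q.1 := by rw [e.eq]
      _ = ((el .z * uu ^ i) * (el .z * uu ^ i)) * (q.1 * q.1) := by group
      _ = 1 := by rw [e2, one_mul]; exact h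
  refine ⟨el .z * p.1, el .z * uu ^ i * q.1, r.1, s.1, e1, e3, congrArg Subtype.val hr, congrArg Subtype.val hs, ?_⟩
  have e : Commute (el .z * uu ^ i) p.1 := (cz p).mul_left (cu p)
  calc uu ^ i * c = uu ^ i * (p.1 * q.1 * r.1 * s.1) := by rw [hpq']
    _ = (el .z * el .z) * uu ^ i * p.1 * q.1 * r.1 * s.1 := by rw [hz]; group
    _ = el .z * ((el .z * uu ^ i) * p.1) * q.1 * r.1 * s.1 := by group
    _ = el .z * (p.1 * (el .z * uu ^ i)) * q.1 * r.1 * s.1 := by rw [e.eq]
    _ = _ := by group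

theorem SR.i4 {g : Fi23} (h : SR g) : I4 g := by
  obtain ⟨u, hu, hv⟩ := h
  have hu' : u⁻¹ = u := inv_eq_of_mul_eq_one_left hu
  refine ⟨u, u * g, 1, 1, hu, ?_, by rw [mul_one], by rw [mul_one], ?_⟩
  · calc u * g * (u * g) = (u * g * u) * g := by group
      _ = (u * g * u⁻¹) * g := by rw [hu']
      _ = 1 := by rw [hv, inv_mul_cancel]
  · rw [mul_one, mul_one, ← mul_assoc, hu, one_mul]

theorem SR.isC {g : Fi23} (h : SR g) (ho : Odd (orderOf g)) : IsC g := by
  obtain ⟨u, -, hv⟩ := h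
  exact isC_of_real_odd hv ho

theorem I4.conj' {g : Fi23} (x : Fi23) (h : I4 (x * g * x⁻¹)) : I4 g := by
  obtain ⟨a, b, c, d, ha, hb, hc, hd, hg⟩ := h
  have key : ∀ y : Fi23, y * y = 1 → (x⁻¹ * y * x) * (x⁻¹ * y * x) = 1 := by
    intro y hy
    calc (x⁻¹ * y * x) * (x⁻¹ * y * x) = x⁻¹ * (y * y) * x := by group
      _ = 1 := by rw [hy]; group
  refine ⟨x⁻¹ * a * x, x⁻¹ * b * x, x⁻¹ * c * x, x⁻¹ * d * x, key a ha, key b hb, key c hc, key d hd, ?_⟩
  calc g = x⁻¹ * (x * g * x⁻¹) * x := by group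
    _ = x⁻¹ * (a * b * c * d) * x := by rw [hg]
    _ = _ := by group

/-! ### Elements of 3-power order -/

theorem card_cent_le {x y : Fi23} (h : ∀ g : Fi23, g * x = x * g → g * y = y * g) :
    Nat.card ↥(centralizer ({x} : Set Fi23)) ∣ Nat.card ↥(centralizer ({y} : Set Fi23)) := by
  apply card_dvd_of_le
  intro g hg
  rw [mem_centralizer_singleton_iff] at hg ⊢
  exact h g hg

/-- **3-elements** -/
theorem three_cases {g : Fi23} {n : ℕ} (hg : g ^ 3 ^ n = 1) :
    (∃ k : Fi23, k * g * k⁻¹ ∈ centralizer ({uu} : Set Fi23)) ∨ SR g ∨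
      Nat.card ↥(centralizer ({g} : Set Fi23)) ≤ 26867295 := by
  have hfin : Finite Fi23 := Cfsg.Agent.H199.NSmFi23.finite
  have h3 : Fact (Nat.Prime 3) := ⟨Nat.prime_three⟩
  have h2 : Fact (Nat.Prime 2) := ⟨Nat.prime_two⟩
  by_cases h1 : g = 1
  · left
    refine ⟨1, ?_⟩
    rw [h1, mul_one, mul_inv_cancel]
    exact one_mem _
  by_cases he : 2 ∣ Nat.card ↥(centralizer ({g} : Set Fi23))
  · obtain ⟨⟨z, hzg⟩, hz⟩ := exists_prime_orderOf_dvd_card' (G := ↥(centralizer ({g} : Set Fi23))) 2 he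
    rw [Subgroup.orderOf_mk] at hz
    have hzz : z * z = 1 := by rw [← pow_two, ← hz, pow_orderOf_eq_one]
    have hz1 : z ≠ 1 := by
      rintro rfl
      rw [orderOf_one] at hz
      omega
    rcases even_or hg hzz hz1 (mem_centralizer_singleton_iff.1 hzg).symm with ⟨p, hp, hpp⟩ | h
    · obtain ⟨k, hk⟩ := into_CC hg hp hpp
      exact Or.inl ⟨k, CC_le hk⟩
    · exact Or.inr (Or.inl h)
  · -- the power of order 3
    obtain ⟨j, hj, hgj⟩ := (Nat.dvd_prime_pow Nat.prime_three).1 (orderOf_dvd_of_pow_eq_one hg)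
    have hj0 : j ≠ 0 := by
      rintro rfl
      rw [pow_zero] at hgj
      exact h1 (orderOf_eq_one_iff.1 hgj)
    obtain ⟨m, rfl⟩ := Nat.exists_eq_succ_of_ne_zero hj0
    have hx : orderOf (g ^ 3 ^ m) = 3 := by
      rw [orderOf_pow, hgj, pow_succ, Nat.gcd_eq_right (Dvd.intro _ rfl)]
      exact Nat.mul_div_cancel_left 3 (by positivity)
    have hle := card_cent_le (x := g) (y := g ^ 3 ^ m) (fun h hh => (show Commute h g from hh).pow_right _)
    by_cases hu : IsConj (g ^ 3 ^ m) uu
    · left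
      obtain ⟨k, hk⟩ := isConj_iff.1 hu
      refine ⟨k, ?_⟩
      rw [mem_centralizer_singleton_iff, ← hk]
      have e : Commute g (g ^ 3 ^ m) := Commute.self_pow g _
      calc k * g * k⁻¹ * (k * g ^ 3 ^ m * k⁻¹) = k * (g * g ^ 3 ^ m) * k⁻¹ := by group
        _ = k * (g ^ 3 ^ m * g) * k⁻¹ := by rw [e.eq]
        _ = _ := by group
    · have hco : ∀ a : ℕ, (Nat.card ↥(centralizer ({g} : Set Fi23))).Coprime (2 ^ a) := fun a =>
        (((Nat.Prime.coprime_iff_not_dvd Nat.prime_two).2 he).symm).pow_right a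
      rcases Cfsg.Agent.H199.NSmFi23.card_three hx with h4 | h4
      · have h5 := (hco 18).dvd_of_dvd_mul_left (hle.trans h4)
        exact Or.inr (Or.inr (Nat.le_of_dvd (by norm_num) h5))
      · have h5 := (hco 18).dvd_of_dvd_mul_left (hle.trans h4)
        obtain ⟨c, hc⟩ := h5
        have hc0 : c ≠ 0 := by
          rintro rfl
          rw [mul_zero] at hc
          exact absurd hc (by norm_num)
        by_cases h13 : 3 ^ 13 ∣ Nat.card ↥(centralizer ({g} : Set Fi23))
        · left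
          obtain ⟨Q, hQ⟩ := Sylow.exists_subgroup_card_pow_prime 3 h13
          have hQc : Nat.card ↥(Q.map (centralizer ({g} : Set Fi23)).subtype) = 3 ^ 13 := by
            rw [← hQ]
            exact Nat.card_congr (Q.equivMapOfInjective _ (Subgroup.subtype_injective _)).toEquiv.symm
          obtain ⟨k, hk⟩ := exists_conj_mem (p := 3) (n := 13) (Q.map (centralizer ({g} : Set Fi23)).subtype)
            (IsPGroup.of_card hQc) (by rw [hQc]) (by rw [card_G]; norm_num) (y := uu) (k := 1)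
            (by rw [pow_one]; exact uu_pow)
          obtain ⟨⟨y, hy⟩, -, hyk⟩ := hk
          change y = k * uu * k⁻¹ at hyk
          rw [hyk, mem_centralizer_singleton_iff] at hy
          refine ⟨k⁻¹, ?_⟩
          rw [mem_centralizer_singleton_iff]
          calc k⁻¹ * g * k⁻¹⁻¹ * uu = k⁻¹ * (g * (k * uu * k⁻¹)) * k := by group
            _ = k⁻¹ * (k * uu * k⁻¹ * g) * k := by rw [hy]
            _ = _ := by group
        · right; right
          have hc1 : c ≠ 1 := by
            rintro rfl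
            apply h13
            rw [mul_one] at hc
            rw [← hc]
            norm_num
          have h6 : 2 ≤ c := by omega
          have h7 : Nat.card ↥(centralizer ({g} : Set Fi23)) * 2 ≤ 39858075 := by
            rw [hc]
            exact Nat.mul_le_mul_left _ h6
          omega

/-! ### Elements of prime order at least five -/

theorem cent_zp {x : Fi23} : centralizer ((zpowers x : Subgroup Fi23) : Set Fi23) = centralizer ({x} : Set Fi23) := by
  ext g
  rw [mem_centralizer_singleton_iff]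
  constructor
  · intro h
    exact ((mem_centralizer_iff.1 h) x (mem_zpowers x)).symm
  · intro h
    rw [mem_centralizer_iff]
    rintro y ⟨i, rfl⟩
    exact ((show Commute g x from h).zpow_right i).symm.eq

theorem card_of_surj {A : Subgroup Fi23} {p n : ℕ} (f : ↥A →* Equiv.Perm (Fin n))
    (hf : Function.Surjective f) (hk : Nat.card f.ker = p) : Nat.card ↥A = n.factorial * p := by
  rw [← f.ker.index_mul_card, Subgroup.index_ker, MonoidHom.range_eq_top.2 hf, hk, Subgroup.card_top]
  congr 1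
  rw [Nat.card_eq_fintype_card, Fintype.card_perm, Fintype.card_fin]

open Cfsg.Agent.H839.Fi23 in
/-- `|C(y11)| ≤ 88` (as in `H468.PW.Fi23`) -/
theorem card_C11 : Nat.card ↥(centralizer (X11 : Set Fi23)) ≤ 88 := by
  by_cases h : ∃ w ∈ centralizer (X11 : Set Fi23), rho w 0 = 18119
  · obtain ⟨w, hw, hw0⟩ := h
    have h1 := index_two_pts (A := centralizer (X11 : Set Fi23))
      (fun w hw p hp => norm_fix (centralizer_le_normalizer _ hw) hp) hw hw0
    rw [Cfsg.Agent.H839.Count.card_of_index_two inf_le_left h1, card_C0]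
  · have h2 : centralizer (X11 : Set Fi23) ⊓ centralizer ({el .z} : Set Fi23) = centralizer (X11 : Set Fi23) := by
      rw [inf_eq_left]
      intro w hw
      rw [mem_cz]
      rcases norm_fix (centralizer_le_normalizer _ hw) (Or.inl rfl) with h1 | h1
      · exact h1
      · exact absurd ⟨w, hw, h1⟩ h
    rw [← h2, card_C0]
    norm_num

theorem card_cent_map (X : Subgroup Fi23) (g : Fi23) :
    Nat.card ↥(centralizer ((X.map (MulAut.conj g).toMonoidHom : Subgroup Fi23) : Set Fi23)) =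
      Nat.card ↥(centralizer (X : Set Fi23)) := by
  have h := Cfsg.Agent.H838.Transport.map_centralizer (MulAut.conj g) (X : Set Fi23)
  have h1 : ((X.map (MulAut.conj g).toMonoidHom : Subgroup Fi23) : Set Fi23) = (MulAut.conj g) '' (X : Set Fi23) := rfl
  rw [h1, ← h]
  exact (Nat.card_congr ((MulAut.conj g).subgroupMap _).toEquiv).symm

open Cfsg.Agent.H839.Fi23 in
theorem card_cent_prime {y : Fi23} {r : ℕ} (hr : r.Prime) (h5 : 5 ≤ r) (hy : orderOf y = r) :
    Nat.card ↥(centralizer ({y} : Set Fi23)) ≤ 25200 := by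
  have hd : r ∣ 4089470473293004800 := by
    rw [← card_G, ← hy]
    exact orderOf_dvd_natCard y
  have hz : Nat.card ↥(zpowers y) = r := by rw [Nat.card_zpowers, hy]
  rcases prime_cases hr h5 hd with rfl | rfl | rfl | rfl | rfl | rfl
  · obtain ⟨f, hf, hk⟩ := H870.IMFi23.exists_surj_elt hy (H838.Fi23.five_main (zpowers y) hz)
    exact (card_of_surj f hf hk).le
  · obtain ⟨f, hf, hk⟩ := H870.IMFi23.exists_surj_elt hy (H839.Fi23.seven_main (zpowers y) hz)
    rw [card_of_surj f hf hk]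
    decide
  · obtain ⟨g, hg⟩ := conj_all11 X11 (zpowers y) card_X11 hz
    rw [← cent_zp, ← hg, card_cent_map]
    exact card_C11.trans (by norm_num)
  · obtain ⟨f, hf, hk⟩ := H870.IMFi23.exists_surj_elt hy (H839.Fi23.thirteen_main (zpowers y) hz)
    rw [card_of_surj f hf hk]
    decide
  · rw [← cent_zp, (seventeen_main (zpowers y) hz).2, hz]
    norm_num
  · rw [← cent_zp, (twentythree_main (zpowers y) hz).2, hz]
    norm_num

/-! ### Elements of odd order -/

/-- **elements of odd order** -/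
theorem odd_cases {g : Fi23} (ho : Odd (orderOf g)) :
    (∃ k : Fi23, k * g * k⁻¹ ∈ centralizer ({uu} : Set Fi23)) ∨ SR g ∨
      Nat.card ↥(centralizer ({g} : Set Fi23)) ≤ 26867295 := by
  have hfin : Finite Fi23 := Cfsg.Agent.H199.NSmFi23.finite
  by_cases h : ∃ r : ℕ, r.Prime ∧ 5 ≤ r ∧ r ∣ orderOf g
  · obtain ⟨r, hr, h5, hd⟩ := h
    right; right
    obtain ⟨m, hm⟩ := hd
    have hm0 : m ≠ 0 := by
      rintro rfl
      rw [mul_zero] at hm
      exact (orderOf_pos g).ne' hm
    have hx : orderOf (g ^ m) = r := by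
      rw [orderOf_pow_of_dvd hm0 ⟨r, by rw [hm, mul_comm]⟩, hm]
      exact Nat.mul_div_cancel _ (Nat.pos_of_ne_zero hm0)
    have hle := card_cent_le (x := g) (y := g ^ m) (fun h hh => (show Commute h g from hh).pow_right _)
    have h1 := card_cent_prime hr h5 hx
    exact (Nat.le_of_dvd Nat.card_pos hle).trans (h1.trans (by norm_num))
  · have h1 : ∀ r : ℕ, r.Prime → r ∣ orderOf g → r = 3 := by
      intro r hr hd
      by_contra hne
      apply h
      refine ⟨r, hr, ?_, hd⟩
      have h2 : r ≠ 2 := by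
        rintro rfl
        exact (Nat.not_even_iff_odd.2 ho) (even_iff_two_dvd.2 hd)
      have h4 : r ≠ 4 := by
        rintro rfl
        exact absurd hr (by norm_num)
      have := hr.two_le
      omega
    have h2 : orderOf g = 3 ^ (orderOf g).primeFactorsList.length := by
      refine Nat.eq_prime_pow_of_unique_prime_dvd (orderOf_pos g).ne' ?_
      intro d hd hdd
      exact h1 d hd hdd
    refine three_cases (n := (orderOf g).primeFactorsList.length) ?_
    rw [← h2]
    exact pow_orderOf_eq_one g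

/-- **row `Fi23` of S2443, elements of odd order** -/
theorem isC_odd (hS : ∀ g : Fi23, Nat.card ↥(centralizer ({g} : Set Fi23)) ≤ 26867295 → IsC g) {g : Fi23}
    (ho : Odd (orderOf g)) : IsC g := by
  rcases odd_cases ho with ⟨k, hk⟩ | h | h
  · exact IsC.of_conj k (isC_uu hk)
  · exact h.isC ho
  · exact hS g h

/-- **row `Fi23` of S4171, elements of odd order** -/
theorem i4_odd (hS : ∀ g : Fi23, Nat.card ↥(centralizer ({g} : Set Fi23)) ≤ 26867295 → I4 g) {g : Fi23}
    (ho : Odd (orderOf g)) : I4 g := by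
  rcases odd_cases ho with ⟨k, hk⟩ | h | h
  · exact I4.conj' k (i4_uu hk)
  · exact h.i4
  · exact hS g h

end Cfsg.Agent.H29.Ore.Fi
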